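import Mathlib
import Cfsg.Prelude

/-!
Elementary abelian sections of 2-groups, read inside one ambient group.
-/

set_option autoImplicit false
set_option linter.style.haveILetI false

open scoped Pointwise

namespace CfsgLib.HaradaDB

variable {G : Type*} [Group G]

/-- Every subgroup of `S` modulo a subgroup containing all its squares has order at most `2 ^ k`. -/
def SecLE (S : Subgroup G) (k : ℕ) : Prop :=
  ∀ K M : Subgroup G, K ≤ S → M ≤ K → (∀ x ∈ K, x * x ∈ M) → M.relIndex K ≤ 2 ^ k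

theorem comm_mem_of_sq {K M : Subgroup G} (hsq : ∀ x ∈ K, x * x ∈ M) {x y : G} (hx : x ∈ K)
    (hy : y ∈ K) : x * y * x⁻¹ * y⁻¹ ∈ M := by
  have h : x * y * x⁻¹ * y⁻¹ =
      (x * y) * (x * y) * ((y⁻¹ * x⁻¹ * y) * (y⁻¹ * x⁻¹ * y)) * (y⁻¹ * y⁻¹) := by group
  rw [h]
  exact M.mul_mem (M.mul_mem (hsq _ (K.mul_mem hx hy))
    (hsq _ (K.mul_mem (K.mul_mem (K.inv_mem hy) (K.inv_mem hx)) hy))) (hsq _ (K.inv_mem hy))

theorem normal_subgroupOf_of_sq {K M : Subgroup G} (hMK : M ≤ K) (hsq : ∀ x ∈ K, x * x ∈ M) :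
    (M.subgroupOf K).Normal := by
  refine ⟨fun m hm g => ?_⟩
  rw [Subgroup.mem_subgroupOf] at hm ⊢
  push_cast
  have h := M.mul_mem (comm_mem_of_sq hsq g.2 (hMK hm)) hm
  rwa [inv_mul_cancel_right] at h

theorem sectional_of_secLE [Finite G] {k : ℕ} (S : Sylow 2 G) (hS : SecLE (S : Subgroup G) k) :
    Cfsg.SectionalPRankLE 2 k G := by
  haveI : Fact (Nat.Prime 2) := ⟨Nat.prime_two⟩
  intro H N _ A hA hA2
  obtain ⟨f, hf⟩ : ∃ f : ↥(A.comap (QuotientGroup.mk' N)) →* A, Function.Surjective f :=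
    ⟨(QuotientGroup.mk' N).subgroupComap A,
      (QuotientGroup.mk' N).subgroupComap_surjective_of_surjective A (QuotientGroup.mk'_surjective N)⟩
  obtain ⟨P⟩ : Nonempty (Sylow 2 ↥(A.comap (QuotientGroup.mk' N))) := Sylow.nonempty
  have hAg : IsPGroup 2 A := fun a => ⟨1, Subtype.ext (by simpa using hA2 _ a.2)⟩
  have htop : ((P.mapSurjective hf : Sylow 2 A) : Subgroup A) = ⊤ :=
    ((P.mapSurjective hf).is_maximal' (hAg.to_subgroup ⊤) le_top).symm
  have hfP : Function.Surjective (f.comp (P : Subgroup ↥(A.comap (QuotientGroup.mk' N))).subtype) := by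
    intro a
    have : a ∈ ((P.mapSurjective hf : Sylow 2 A) : Subgroup A) := htop ▸ Subgroup.mem_top a
    obtain ⟨q, hq, rfl⟩ := this
    exact ⟨⟨q, hq⟩, rfl⟩
  obtain ⟨i, hi⟩ : ∃ i : ↥(P : Subgroup ↥(A.comap (QuotientGroup.mk' N))) →* G, Function.Injective i :=
    ⟨(H.subtype.comp (A.comap (QuotientGroup.mk' N)).subtype).comp
        (P : Subgroup ↥(A.comap (QuotientGroup.mk' N))).subtype,
      fun a b h => Subtype.ext (Subtype.ext (Subtype.ext h))⟩
  have hip : IsPGroup 2 i.range := by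
    intro x
    obtain ⟨y, hy⟩ := x.2
    obtain ⟨n, hn⟩ := P.isPGroup' y
    exact ⟨n, Subtype.ext (by rw [Subgroup.coe_pow, ← hy, ← map_pow, hn, map_one, Subgroup.coe_one])⟩
  obtain ⟨Q, hQ⟩ := hip.exists_le_sylow
  obtain ⟨g, hg⟩ := MulAction.exists_smul_eq G Q S
  let j := (MulAut.conj g).toMonoidHom.comp i
  have hj : Function.Injective j := (MulAut.conj g).injective.comp hi
  have hjS : j.range ≤ (S : Subgroup G) := by
    rintro _ ⟨y, rfl⟩
    have : MulAut.conj g (i y) ∈ (MulAut.conj g • (Q : Subgroup G)) :=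
      Subgroup.smul_mem_pointwise_smul _ _ _ (hQ ⟨y, rfl⟩)
    rw [← hg, Sylow.coe_subgroup_smul]
    exact this
  let M₀ := (f.comp (P : Subgroup ↥(A.comap (QuotientGroup.mk' N))).subtype).ker
  have hb := hS j.range (M₀.map j) hjS (Subgroup.map_le_range j M₀) (by
    rintro _ ⟨y, rfl⟩
    refine ⟨y * y, ?_, map_mul j y y⟩
    rw [SetLike.mem_coe, MonoidHom.mem_ker, map_mul, ← sq]
    exact Subtype.ext (by rw [Subgroup.coe_pow]; exact hA2 _ (Subtype.prop _)))
  rw [MonoidHom.range_eq_map, Subgroup.relIndex_map_map_of_injective M₀ ⊤ hj,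
    Subgroup.relIndex_top_right, Subgroup.index_ker, MonoidHom.range_eq_top.2 hfP,
    Subgroup.card_top] at hb
  exact hb

theorem relIndex_mul_card_of_le {M K : Subgroup G} (h : M ≤ K) :
    M.relIndex K * Nat.card M = Nat.card K := by
  rw [← Subgroup.relIndex_bot_left M, ← Subgroup.relIndex_bot_left K,
    ← Subgroup.relIndex_mul_relIndex ⊥ M K bot_le h, mul_comm]

/-- Disjoint subgroups inside `E` multiply injectively. -/
theorem card_mul_le [Finite G] {X Y E : Subgroup G} (hX : X ≤ E) (hY : Y ≤ E) (h : X ⊓ Y = ⊥) :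
    Nat.card X * Nat.card Y ≤ Nat.card E := by
  rw [← Nat.card_prod]
  refine Nat.card_le_card_of_injective
    (fun w : X × Y => (⟨w.1 * w.2, E.mul_mem (hX w.1.2) (hY w.2.2)⟩ : E)) ?_
  rintro ⟨a, b⟩ ⟨a', b'⟩ hab
  have h1 : (a : G) * b = a' * b' := congrArg Subtype.val hab
  have h2 : (a' : G)⁻¹ * a = b' * (b : G)⁻¹ := by
    rw [eq_mul_inv_iff_mul_eq, mul_assoc, h1, inv_mul_cancel_left]
  have h3 : (a' : G)⁻¹ * a ∈ X ⊓ Y :=
    ⟨X.mul_mem (X.inv_mem a'.2) a.2, h2 ▸ Y.mul_mem b'.2 (Y.inv_mem b.2)⟩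
  rw [h, Subgroup.mem_bot, inv_mul_eq_one] at h3
  have h4 : (b : G) = b' := by rw [h3] at h1; exact mul_left_cancel h1
  exact Prod.ext (Subtype.ext h3.symm) (Subtype.ext h4)

end CfsgLib.HaradaDB
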