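import Cfsg.Agent.Lib.HaradaDB.Section

/-!
A Sylow 2-centralizer `D × B` with `D` having a cyclic subgroup of index two and `B` a four-group.
-/

set_option autoImplicit false
set_option linter.style.haveILetI false

namespace CfsgLib.HaradaDB

variable {G : Type*} [Group G] [Finite G]

omit [Finite G] in
theorem exists_mul_of_sup {T D B : Subgroup G} (hcomm : ∀ a ∈ D, ∀ b ∈ B, a * b = b * a)
    (hsup : D ⊔ B = T) {t : G} (ht : t ∈ T) : ∃ d ∈ D, ∃ b ∈ B, t = d * b := by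
  subst hsup
  have hcom' : ∀ (m : D) (n : B), Commute (D.subtype m) (B.subtype n) :=
    fun a b => hcomm a a.2 b b.2
  obtain ⟨⟨d, b⟩, h⟩ : t ∈ (MonoidHom.noncommCoprod D.subtype B.subtype hcom').range := by
    rw [MonoidHom.noncommCoprod_range, Subgroup.range_subtype, Subgroup.range_subtype]
    exact ht
  exact ⟨d, d.2, b, b.2, h.symm⟩

/-- `D × B` with `D` cyclic-by-two and `B` of order four has no elementary section of order 32. -/
theorem secLE_prod {T D B : Subgroup G} (hcomm : ∀ a ∈ D, ∀ b ∈ B, a * b = b * a)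
    (hsup : D ⊔ B = T) (hB : Nat.card B = 4) {c y : G} (hc : c ∈ D) (_hy : y ∈ D)
    (hcy : ∀ d ∈ D, d ∈ Subgroup.zpowers c ∨ y⁻¹ * d ∈ Subgroup.zpowers c) : SecLE T 4 := by
  intro K M hKT hMK hsq
  haveI := normal_subgroupOf_of_sq hMK hsq
  have hcb : ∀ (n : ℤ), ∀ b ∈ B, c ^ n * b = b * c ^ n := fun n b hb =>
    hcomm _ (D.zpow_mem hc n) b hb
  -- the exponents of `c` occurring in `K`
  let Z : AddSubgroup ℤ :=
    { carrier := {i : ℤ | ∃ b ∈ B, c ^ i * b ∈ K}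
      zero_mem' := ⟨1, B.one_mem, by simp⟩
      add_mem' := by
        rintro i j ⟨b, hb, hi⟩ ⟨b', hb', hj⟩
        refine ⟨b * b', B.mul_mem hb hb', ?_⟩
        have := K.mul_mem hi hj
        rwa [mul_assoc, ← mul_assoc b, ← hcb j b hb, mul_assoc, ← mul_assoc (c ^ i), ← zpow_add]
          at this
      neg_mem' := by
        rintro i ⟨b, hb, hi⟩
        refine ⟨b⁻¹, B.inv_mem hb, ?_⟩
        have := K.inv_mem hi
        rwa [mul_inv_rev, ← zpow_neg, ← hcb (-i) _ (B.inv_mem hb)] at this }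
  obtain ⟨d, hd⟩ := Int.subgroup_cyclic Z
  obtain ⟨b₀, hb₀, hk₀⟩ : d ∈ Z := hd ▸ AddSubgroup.mem_closure_singleton_self d
  -- write elements of `K` inside `⟨c⟩B` by means of one element and `K ⊓ B`
  have hX : ∀ k ∈ K, (∃ i : ℤ, ∃ b ∈ B, k = c ^ i * b) →
      ∃ n : ℤ, ∃ l ∈ K ⊓ B, k = l * (c ^ d * b₀) ^ n := by
    rintro k hk ⟨i, b, hb, rfl⟩
    obtain ⟨n, hn⟩ : ∃ n : ℤ, n • d = i :=
      AddSubgroup.mem_closure_singleton.1 (hd ▸ (⟨b, hb, hk⟩ : i ∈ Z))
    refine ⟨n, c ^ i * b * ((c ^ d * b₀) ^ n)⁻¹,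
      Subgroup.mem_inf.2 ⟨K.mul_mem hk (K.inv_mem (K.zpow_mem hk₀ n)), ?_⟩,
      (inv_mul_cancel_right _ _).symm⟩
    have hcom : Commute (c ^ d) b₀ := hcb d b₀ hb₀
    rw [hcom.mul_zpow, ← zpow_mul, show d * n = i by rw [← hn, smul_eq_mul]; ring, mul_inv_rev,
      hcb i b hb, ← mul_assoc, mul_assoc b, ← zpow_neg b₀ n, hcb i _ (B.zpow_mem hb₀ _),
      ← mul_assoc, mul_inv_cancel_right]
    exact B.mul_mem hb (B.zpow_mem hb₀ _)
  -- a representative outside
  classical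
  obtain ⟨s, hsK, hs⟩ : ∃ s ∈ K, ∀ k ∈ K, (∃ i : ℤ, ∃ b ∈ B, k = c ^ i * b) ∨
      ∃ i : ℤ, ∃ b ∈ B, s⁻¹ * k = c ^ i * b := by
    by_cases hall : ∀ k ∈ K, ∃ i : ℤ, ∃ b ∈ B, k = c ^ i * b
    · exact ⟨1, K.one_mem, fun k hk => .inl (hall k hk)⟩
    · push Not at hall
      obtain ⟨s, hsK, hsX⟩ := hall
      have hdec : ∀ k ∈ K, (∃ i : ℤ, ∃ b ∈ B, k = c ^ i * b) ∨
          ∃ i : ℤ, ∃ b ∈ B, k = y * c ^ i * b := by
        intro k hk
        obtain ⟨e, he, b, hb, rfl⟩ := exists_mul_of_sup hcomm hsup (hKT hk)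
        rcases hcy e he with ⟨i, hi⟩ | ⟨i, hi⟩
        · exact .inl ⟨i, b, hb, by rw [← hi]⟩
        · exact .inr ⟨i, b, hb, by rw [show c ^ i = y⁻¹ * e from hi, mul_inv_cancel_left]⟩
      refine ⟨s, hsK, fun k hk => ?_⟩
      rcases hdec k hk with h | ⟨i, b, hb, rfl⟩
      · exact .inl h
      · obtain ⟨i', b', hb', hs'⟩ | ⟨i', b', hb', rfl⟩ := hdec s hsK
        · exact absurd hs' (hsX i' b' hb')
        · refine .inr ⟨-i' + i, b'⁻¹ * b, B.mul_mem (B.inv_mem hb') hb, ?_⟩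
          rw [show (y * c ^ i' * b')⁻¹ * (y * c ^ i * b) = b'⁻¹ * c ^ (-i' + i) * b by group,
            ← hcb _ _ (B.inv_mem hb'), mul_assoc]
  -- count the quotient
  have hsq' : ∀ q : ↥K ⧸ M.subgroupOf K, q * q = 1 := by
    intro q
    induction q using QuotientGroup.induction_on with
    | H k => exact (QuotientGroup.eq_one_iff _).2 (hsq k k.2)
  let F : (↥(K ⊓ B : Subgroup G) × Bool) × Bool → ↥K ⧸ M.subgroupOf K := fun w =>
    (if w.2 then QuotientGroup.mk (⟨s, hsK⟩ : K) else 1) *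
      QuotientGroup.mk (⟨w.1.1, (Subgroup.mem_inf.1 w.1.1.2).1⟩ : K) *
      (if w.1.2 then QuotientGroup.mk (⟨c ^ d * b₀, hk₀⟩ : K) else 1)
  have hFs : Function.Surjective F := by
    have hpow : ∀ (r : ↥K ⧸ M.subgroupOf K) (n : ℤ), r ^ n = 1 ∨ r ^ n = r := by
      intro r n
      rcases Int.even_or_odd' n with ⟨m, rfl | rfl⟩
      · left; rw [zpow_mul, zpow_two, hsq', one_zpow]
      · right; rw [zpow_add, zpow_mul, zpow_two, hsq', one_zpow, one_mul, zpow_one]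
    have hin : ∀ k : K, (∃ i : ℤ, ∃ b ∈ B, (k : G) = c ^ i * b) →
        ∃ w, F (w, false) = QuotientGroup.mk k := by
      intro k hk
      obtain ⟨n, l, hl, hkl⟩ := hX k k.2 hk
      have hk' : k = ⟨l, (Subgroup.mem_inf.1 hl).1⟩ * (⟨c ^ d * b₀, hk₀⟩ : K) ^ n :=
        Subtype.ext (by push_cast; exact hkl)
      rw [hk', QuotientGroup.mk_mul, QuotientGroup.mk_zpow]
      rcases hpow (QuotientGroup.mk (⟨c ^ d * b₀, hk₀⟩ : K)) n with h | h
      · exact ⟨(⟨l, hl⟩, false), by simp [F, h]⟩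
      · exact ⟨(⟨l, hl⟩, true), by simp [F, h]⟩
    intro q
    induction q using QuotientGroup.induction_on with
    | H k =>
      rcases hs k k.2 with h | h
      · obtain ⟨w, hw⟩ := hin k h
        exact ⟨(w, false), hw⟩
      · obtain ⟨w, hw⟩ := hin ((⟨s, hsK⟩ : K)⁻¹ * k) (by push_cast; exact h)
        refine ⟨(w, true), ?_⟩
        have : F (w, true) = QuotientGroup.mk (⟨s, hsK⟩ : K) * F (w, false) := by
          simp [F, mul_assoc]
        rw [this, hw, ← QuotientGroup.mk_mul, mul_inv_cancel_left]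
  have hle := Nat.card_le_card_of_surjective F hFs
  rw [Nat.card_prod, Nat.card_prod, Nat.card_eq_fintype_card (α := Bool), Fintype.card_bool] at hle
  have hKB : Nat.card ↥(K ⊓ B : Subgroup G) ≤ 4 := hB ▸ Subgroup.card_le_of_le inf_le_right
  calc M.relIndex K = Nat.card (↥K ⧸ M.subgroupOf K) := rfl
    _ ≤ Nat.card ↥(K ⊓ B : Subgroup G) * 2 * 2 := hle
    _ ≤ 2 ^ 4 := by omega

/-- At most one central involution in a non-abelian group with a cyclic subgroup of index two. -/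
theorem central_involution_unique {D : Subgroup G} {c y : G}
    (hcy : ∀ d ∈ D, d ∈ Subgroup.zpowers c ∨ y⁻¹ * d ∈ Subgroup.zpowers c)
    (hna : ¬ IsMulCommutative D) (hc : c ∈ D) {d e : G} (hd : d ∈ D) (he : e ∈ D)
    (hdC : ∀ x ∈ D, x * d = d * x) (heC : ∀ x ∈ D, x * e = e * x)
    (hd2 : d * d = 1) (he2 : e * e = 1) (hd1 : d ≠ 1) (he1 : e ≠ 1) : d = e := by
  classical
  have hin : ∀ z ∈ D, (∀ x ∈ D, x * z = z * x) → z ∈ Subgroup.zpowers c := by
    intro z hz hzC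
    rcases hcy z hz with h | h
    · exact h
    exfalso
    apply hna
    obtain ⟨i, hi⟩ := h
    have hyc : Commute y c := by
      have hy : y = z * (c ^ i)⁻¹ := by
        rw [show c ^ i = y⁻¹ * z from hi, mul_inv_rev, inv_inv, mul_inv_cancel_left]
      rw [hy]
      exact (show Commute z c from (hzC c hc).symm).mul_left (Commute.zpow_self c i).inv_left
    refine ⟨⟨fun a b => Subtype.ext ?_⟩⟩
    have key : ∀ a ∈ D, ∃ m n : ℤ, a = y ^ m * c ^ n := by
      intro a ha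
      rcases hcy a ha with ⟨n, hn⟩ | ⟨n, hn⟩
      · exact ⟨0, n, by rw [zpow_zero, one_mul, ← hn]⟩
      · exact ⟨1, n, by rw [show c ^ n = y⁻¹ * a from hn, zpow_one, mul_inv_cancel_left]⟩
    obtain ⟨m, n, ha⟩ := key a a.2
    obtain ⟨m', n', hb⟩ := key b b.2
    rw [Subgroup.coe_mul, Subgroup.coe_mul, ha, hb]
    exact ((((Commute.refl y).zpow_zpow m m').mul_right (hyc.zpow_zpow m n')).mul_left
      ((hyc.symm.zpow_zpow n m').mul_right ((Commute.refl c).zpow_zpow n n'))).eq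
  obtain ⟨i, rfl⟩ := hin d hd hdC
  obtain ⟨j, rfl⟩ := hin e he heC
  by_contra hne
  haveI := Fintype.ofFinite (Subgroup.zpowers c)
  have h2 := IsCyclic.card_pow_eq_one_le (α := Subgroup.zpowers c) (n := 2) two_pos
  have h3 : ({1, ⟨c ^ i, i, rfl⟩, ⟨c ^ j, j, rfl⟩} : Finset (Subgroup.zpowers c)) ⊆
      Finset.univ.filter fun a => a ^ 2 = 1 := by
    intro a ha
    simp only [Finset.mem_insert, Finset.mem_singleton] at ha
    simp only [Finset.mem_filter, Finset.mem_univ, true_and]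
    rcases ha with rfl | rfl | rfl
    · simp
    · exact Subtype.ext (by rw [Subgroup.coe_pow, sq]; exact hd2)
    · exact Subtype.ext (by rw [Subgroup.coe_pow, sq]; exact he2)
  have h4 := Finset.card_le_card h3
  rw [Finset.card_insert_of_notMem, Finset.card_pair] at h4
  · omega
  · exact fun h => hne (congrArg Subtype.val h)
  · simp only [Finset.mem_insert, Finset.mem_singleton, Subtype.ext_iff, Subgroup.coe_one]
    rintro (h | h)
    · exact hd1 h.symm
    · exact he1 h.symm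

omit [Finite G] in
/-- Some element of a 2-group outside a subgroup it normalizes squares into it. -/
theorem exists_sq_mem {T : Subgroup G} {q : G} (hq : ∃ n : ℕ, q ^ (2 ^ n) = 1) (hqT : q ∉ T) :
    ∃ n : ℕ, q ^ (2 ^ n) ∉ T ∧ q ^ (2 ^ n) * q ^ (2 ^ n) ∈ T := by
  classical
  obtain ⟨n, hn⟩ := hq
  have h : ∃ n, q ^ (2 ^ n) ∈ T := ⟨n, hn ▸ T.one_mem⟩
  have hne : Nat.find h ≠ 0 := by
    intro h0
    have := Nat.find_spec h
    rw [h0, pow_zero, pow_one] at this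
    exact hqT this
  refine ⟨Nat.find h - 1, Nat.find_min h (by omega), ?_⟩
  rw [← pow_add, ← two_mul, ← pow_succ', Nat.sub_add_cancel (Nat.one_le_iff_ne_zero.2 hne)]
  exact Nat.find_spec h

theorem exists_normalizing {S T : Subgroup G} (hS : IsPGroup 2 S) (hTS : T ≤ S) (hne : T ≠ S) :
    ∃ q ∈ S, q ∉ T ∧ q ∈ Subgroup.normalizer (T : Set G) ∧ q * q ∈ T := by
  haveI : Fact (Nat.Prime 2) := ⟨Nat.prime_two⟩
  haveI := hS.isNilpotent
  obtain ⟨⟨q, hqS⟩, hqN, hqT⟩ := SetLike.exists_of_lt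
    (Group.normalizerCondition_of_isNilpotent (T.subgroupOf S)
      (lt_top_iff_ne_top.2 fun h => hne (le_antisymm hTS (Subgroup.subgroupOf_eq_top.1 h))))
  rw [Subgroup.mem_subgroupOf] at hqT
  have hN : q ∈ Subgroup.normalizer (T : Set G) := by
    rw [Subgroup.mem_normalizer_iff] at hqN ⊢
    intro z
    constructor
    · intro hz
      exact (Subgroup.mem_subgroupOf.1 ((hqN ⟨z, hTS hz⟩).1 (Subgroup.mem_subgroupOf.2 hz)) : _)
    · intro hz
      have hzS : z ∈ S := by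
        have := S.mul_mem (S.mul_mem (S.inv_mem hqS) (hTS hz)) hqS
        simpa [mul_assoc] using this
      exact Subgroup.mem_subgroupOf.1 ((hqN ⟨z, hzS⟩).2 (Subgroup.mem_subgroupOf.2 hz))
  obtain ⟨n, hn1, hn2⟩ := exists_sq_mem (T := T) (q := q) (by
    obtain ⟨n, hn⟩ := hS ⟨q, hqS⟩
    exact ⟨n, congrArg Subtype.val hn⟩) hqT
  exact ⟨q ^ (2 ^ n), S.pow_mem hqS _, hn1, Subgroup.pow_mem _ hN _, hn2⟩

/-- If the centre of `D` has one involution, `D × B` is a Sylow subgroup. -/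
theorem eq_of_small_center {S T D B : Subgroup G} (hS : IsPGroup 2 S) (hTS : T ≤ S)
    (hcomm : ∀ a ∈ D, ∀ b ∈ B, a * b = b * a) (hsup : D ⊔ B = T) (hB : Nat.card B = 4)
    (hB2 : ∀ b ∈ B, b * b = 1) (hBC : ∀ b ∈ B, ∀ t ∈ T, t * b = b * t)
    (huniq : ∀ d ∈ D, ∀ e ∈ D, (∀ x ∈ D, x * d = d * x) → (∀ x ∈ D, x * e = e * x) →
      d * d = 1 → e * e = 1 → d ≠ 1 → e ≠ 1 → d = e)
    (hcent : ∀ b ∈ B, b ≠ 1 → ∀ s ∈ S, s * b = b * s → s ∈ T) : T = S := by
  classical
  by_contra hne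
  obtain ⟨q, hqS, hqT, hqN, hqq⟩ := exists_normalizing hS hTS hne
  -- the exponent-two part of the centre of `T`
  let Z : Subgroup G :=
    { carrier := {z | z ∈ T ∧ z * z = 1 ∧ ∀ t ∈ T, t * z = z * t}
      one_mem' := ⟨T.one_mem, one_mul 1, fun t _ => by simp⟩
      mul_mem' := fun {a b} ha hb => ⟨T.mul_mem ha.1 hb.1,
        by rw [mul_assoc, ← mul_assoc b, ha.2.2 b hb.1, mul_assoc a b b, hb.2.1, mul_one, ha.2.1],
        fun t ht => by rw [← mul_assoc, ha.2.2 t ht, mul_assoc, hb.2.2 t ht, mul_assoc]⟩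
      inv_mem' := fun {a} ha => by
        rw [inv_eq_of_mul_eq_one_right ha.2.1]; exact ha }
  have hBT : B ≤ T := hsup ▸ le_sup_right
  have hDT : D ≤ T := hsup ▸ le_sup_left
  have hBZ : B ≤ Z := fun b hb => ⟨hBT hb, hB2 b hb, hBC b hb⟩
  have hZcard : Nat.card Z ≤ 8 := by
    have hdec : ∀ z ∈ Z, ∃ d ∈ D, ∃ b ∈ B, z = d * b ∧ d * d = 1 ∧ ∀ x ∈ D, x * d = d * x := by
      intro z hz
      obtain ⟨d, hd, b, hb, rfl⟩ := exists_mul_of_sup hcomm hsup hz.1
      have hzb : d = d * b * b := by rw [mul_assoc, hB2 b hb, mul_one]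
      refine ⟨d, hd, b, hb, rfl, ?_, fun x hx => ?_⟩
      · have := hz.2.1
        rwa [mul_assoc, ← mul_assoc b, ← hcomm d hd b hb, mul_assoc d b b, hB2 b hb, mul_one] at this
      · have := hz.2.2 x (hDT hx)
        rw [mul_assoc, ← hcomm x hx b hb, ← mul_assoc, ← mul_assoc] at this
        exact mul_right_cancel this
    by_cases he : ∃ e ∈ D, e * e = 1 ∧ e ≠ 1 ∧ ∀ x ∈ D, x * e = e * x
    · obtain ⟨e, heD, he2, he1, heC⟩ := he
      have hsub : (Z : Set G) ⊆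
          (fun w : Bool × G => (if w.1 then e else 1) * w.2) '' (Set.univ ×ˢ (B : Set G)) := by
        intro z hz
        obtain ⟨d, hd, b, hb, rfl, hd2, hdC⟩ := hdec z hz
        by_cases hd1 : d = 1
        · exact ⟨(false, b), ⟨trivial, hb⟩, by simp [hd1]⟩
        · exact ⟨(true, b), ⟨trivial, hb⟩, by simp [huniq d hd e heD hdC heC hd2 he2 hd1 he1]⟩
      have h := Set.ncard_le_ncard hsub (Set.toFinite _)
      have h2 := Set.ncard_image_le (f := fun w : Bool × G => (if w.1 then e else 1) * w.2)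
        (Set.toFinite ((Set.univ : Set Bool) ×ˢ (B : Set G)))
      rw [Set.ncard_prod, Set.ncard_univ, Nat.card_eq_fintype_card, Fintype.card_bool] at h2
      have h3 : (B : Set G).ncard = 4 := hB
      change (Z : Set G).ncard ≤ 8
      omega
    · push Not at he
      have hsub : Z ≤ B := by
        intro z hz
        obtain ⟨d, hd, b, hb, rfl, hd2, hdC⟩ := hdec z hz
        have : d = 1 := by
          by_contra hd1
          obtain ⟨x, hx, hxd⟩ := he d hd hd2 hd1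
          exact hxd (hdC x hx)
        simpa [this] using hb
      have := Subgroup.card_le_of_le hsub
      omega
  have hconj : ∀ z ∈ Z, q * z * q⁻¹ ∈ Z := by
    intro z hz
    refine ⟨(Subgroup.mem_normalizer_iff.1 hqN z).1 hz.1, ?_, fun t ht => ?_⟩
    · rw [show q * z * q⁻¹ * (q * z * q⁻¹) = q * (z * z) * q⁻¹ by group, hz.2.1, mul_one,
        mul_inv_cancel]
    · have h := hz.2.2 (q⁻¹ * t * q)
        ((Subgroup.mem_normalizer_iff.1 hqN (q⁻¹ * t * q)).2 (by simpa [mul_assoc] using ht))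
      calc t * (q * z * q⁻¹) = q * (q⁻¹ * t * q * z) * q⁻¹ := by group
        _ = q * (z * (q⁻¹ * t * q)) * q⁻¹ := by rw [h]
        _ = q * z * q⁻¹ * t := by group
  -- elements fixed by `q`
  let Fx := Z ⊓ Subgroup.centralizer ({q} : Set G)
  have hFB : Fx ⊓ B = ⊥ := by
    rw [eq_bot_iff]
    intro b hb
    obtain ⟨⟨-, hbq⟩, hbB⟩ := hb
    rw [Subgroup.mem_bot]
    by_contra hb1
    exact hqT (hcent b hbB hb1 q hqS (Subgroup.mem_centralizer_singleton_iff.1 hbq).symm)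
  have hmem : ∀ b ∈ B, b * (q * b * q⁻¹) ∈ Fx := by
    intro b hb
    refine ⟨Z.mul_mem (hBZ hb) (hconj b (hBZ hb)), Subgroup.mem_centralizer_singleton_iff.2 ?_⟩
    have h1 : q * q * b = b * (q * q) := hBC b hb _ hqq
    have h2 : q * (q * b * q⁻¹) * q⁻¹ = b := by
      calc q * (q * b * q⁻¹) * q⁻¹ = q * q * b * (q * q)⁻¹ := by group
        _ = b := by rw [h1, mul_inv_cancel_right]
    have h3 : b * (q * b * q⁻¹) = q * b * q⁻¹ * b :=
      (hconj b (hBZ hb)).2.2 b (hBT hb)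
    symm
    calc q * (b * (q * b * q⁻¹)) = q * b * q⁻¹ * (q * (q * b * q⁻¹) * q⁻¹) * q := by group
      _ = q * b * q⁻¹ * b * q := by rw [h2]
      _ = b * (q * b * q⁻¹) * q := by rw [h3]
  have hinj : Function.Injective (fun b : B => (⟨(b : G) * (q * b * q⁻¹), hmem b b.2⟩ : Fx)) := by
    intro b b' h
    have h1 : (b : G) * (q * b * q⁻¹) = b' * (q * b' * q⁻¹) := congrArg Subtype.val h
    by_contra hne'
    have h0 : (b : G) * b' ≠ 1 := fun h0 => hne' (Subtype.ext (by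
      rw [eq_inv_of_mul_eq_one_left h0, inv_eq_of_mul_eq_one_right (hB2 b' b'.2)]))
    apply hqT (hcent _ (B.mul_mem b.2 b'.2) h0 q hqS ?_)
    have hbb : (b' : G) * b = b * b' := hBC b b.2 b' (hBT b'.2)
    have h4 : q * ((b : G) * b') * q⁻¹ = b * b' := by
      calc q * ((b : G) * b') * q⁻¹
          = (b : G)⁻¹ * ((b : G) * (q * b * q⁻¹)) * (q * b' * q⁻¹) := by group
        _ = (b : G)⁻¹ * b' * ((q * b' * q⁻¹) * (q * b' * q⁻¹)) := by rw [h1]; group
        _ = (b : G) * b' := by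
          rw [show q * (b' : G) * q⁻¹ * (q * b' * q⁻¹) = q * ((b' : G) * b') * q⁻¹ by group,
            hB2 b' b'.2, mul_one, mul_inv_cancel, mul_one,
            inv_eq_of_mul_eq_one_right (hB2 b b.2)]
    exact mul_inv_eq_iff_eq_mul.1 h4
  have h4 : 4 ≤ Nat.card Fx := hB ▸ Nat.card_le_card_of_injective _ hinj
  have h5 := card_mul_le (inf_le_left : Fx ≤ Z) hBZ hFB
  rw [hB] at h5
  change 4 ≤ Nat.card Fx at h4
  have h6 : 16 ≤ Nat.card Fx * 4 := by omega
  exact absurd (h6.trans (h5.trans hZcard)) (by norm_num)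

end CfsgLib.HaradaDB
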