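import Cfsg.Agent.Lib.HaradaDB.Direct
import Cfsg.Agent.Lib.PGroup.Basic

/-!
A 2-group with an elementary abelian subgroup of order 16 which is the centralizer of each
involution of one of its four-subgroups has sectional 2-rank at most four.
-/

set_option autoImplicit false
set_option linter.style.haveILetI false

open scoped Pointwise

namespace CfsgLib.HaradaDB

variable {G : Type*} [Group G] [Finite G]

/-- The hypotheses of the case `T = E` elementary of order 16. -/
structure Ctx (S E B : Subgroup G) : Prop where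
  pg : IsPGroup 2 S
  le : E ≤ S
  card : Nat.card E = 16
  comm : ∀ a ∈ E, ∀ b ∈ E, a * b = b * a
  sq : ∀ a ∈ E, a * a = 1
  Ble : B ≤ E
  Bcard : Nat.card B = 4
  cent : ∀ b ∈ B, b ≠ 1 → ∀ s ∈ S, s * b = b * s → s ∈ E

namespace Ctx

variable {S E B : Subgroup G} (c : Ctx S E B)

include c

omit [Finite G] in
theorem centralizer_inf {f : G} (hf : f ∈ S) (hfE : f ∉ E) :
    (E ⊓ Subgroup.centralizer ({f} : Set G)) ⊓ B = ⊥ := by
  rw [eq_bot_iff]
  intro b hb
  obtain ⟨⟨-, hbf⟩, hbB⟩ := hb
  rw [Subgroup.mem_bot]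
  by_contra hb1
  exact hfE (c.cent b hbB hb1 f hf (Subgroup.mem_centralizer_singleton_iff.1 hbf).symm)

theorem centralizer_card {f : G} (hf : f ∈ S) (hfE : f ∉ E) :
    Nat.card ↥(E ⊓ Subgroup.centralizer ({f} : Set G) : Subgroup G) ≤ 4 := by
  have h := card_mul_le (inf_le_left : E ⊓ Subgroup.centralizer ({f} : Set G) ≤ E) c.Ble
    (c.centralizer_inf hf hfE)
  rw [c.card, c.Bcard] at h
  omega

/-- Four distinct commutators with an element normalizing `E`. -/
theorem four_commutators {f : G} (hf : f ∈ S) (hfE : f ∉ E)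
    (_hfN : f ∈ Subgroup.normalizer (E : Set G)) (K : Subgroup G)
    (hK : ∀ b ∈ B, b * f * b⁻¹ * f⁻¹ ∈ K) : 4 ≤ Nat.card K := by
  rw [← c.Bcard]
  refine Nat.card_le_card_of_injective
    (fun b : B => (⟨(b : G) * f * (b : G)⁻¹ * f⁻¹, hK b b.2⟩ : K)) fun b b' h => ?_
  have h1 : (b : G) * f * (b : G)⁻¹ * f⁻¹ = b' * f * (b' : G)⁻¹ * f⁻¹ := congrArg Subtype.val h
  by_contra hne
  refine hfE (c.cent ((b' : G)⁻¹ * b) (B.mul_mem (B.inv_mem b'.2) b.2)
    (fun h0 => hne (Subtype.ext (inv_mul_eq_one.1 h0).symm)) f hf ?_)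
  have h2 : (b : G) * f * (b : G)⁻¹ = b' * f * (b' : G)⁻¹ := mul_right_cancel h1
  calc f * ((b' : G)⁻¹ * b) = (b' : G)⁻¹ * (b' * f * (b' : G)⁻¹) * b := by group
    _ = (b' : G)⁻¹ * b * f := by rw [← h2]; group

/-- The normalizer of `E` in `S` has order at most 64. -/
theorem card_normalizer_le :
    Nat.card ↥(S ⊓ Subgroup.normalizer (E : Set G) : Subgroup G) ≤ 64 := by
  classical
  haveI : Fact (Nat.Prime 2) := ⟨Nat.prime_two⟩
  set N := S ⊓ Subgroup.normalizer (E : Set G) with hNdef
  have hEN : E ≤ N := le_inf c.le Subgroup.le_normalizer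
  have hN2 : IsPGroup 2 N := c.pg.to_le inf_le_left
  have hEn : (E.subgroupOf N).Normal :=
    ⟨fun e he g => (Subgroup.mem_normalizer_iff.1 (Subgroup.mem_inf.1 g.2).2 _).1 he⟩
  have hEne : E.subgroupOf N ≠ ⊥ := by
    intro h
    have := Nat.card_congr (Subgroup.subgroupOfEquivOfLe hEN).toEquiv
    rw [h, Subgroup.card_bot, c.card] at this
    omega
  obtain ⟨H₀, -, hH₀n, hH₀E, -, -, -, hH₀c, -⟩ :=
    CfsgLib.PGroup.exists_normal_index_prime hN2 (E.subgroupOf N) hEne
  have hHcard : Nat.card H₀ = 8 := by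
    rw [Nat.card_congr (Subgroup.subgroupOfEquivOfLe hEN).toEquiv, c.card] at hH₀c
    omega
  -- the intersection of `H₀` with `B` is non-trivial
  have hex : ∃ b ∈ B.subgroupOf N, b ≠ 1 ∧ b ∈ H₀ := by
    by_contra h
    push Not at h
    have hd : H₀ ⊓ B.subgroupOf N = ⊥ := by
      rw [eq_bot_iff]
      intro z hz
      obtain ⟨hzH, hzB⟩ := hz
      rw [Subgroup.mem_bot]
      by_contra hz1
      exact h z hzB hz1 hzH
    have hBE : B.subgroupOf N ≤ E.subgroupOf N := fun z hz => c.Ble hz
    have h5 := card_mul_le hH₀E hBE hd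
    rw [hHcard, Nat.card_congr (Subgroup.subgroupOfEquivOfLe (c.Ble.trans hEN)).toEquiv, c.Bcard,
      Nat.card_congr (Subgroup.subgroupOfEquivOfLe hEN).toEquiv, c.card] at h5
    omega
  obtain ⟨b, hbB, hb1, hbH⟩ := hex
  -- orbit and stabilizer
  let C := Subgroup.centralizer ({b} : Set N)
  have hC : C = E.subgroupOf N := by
    refine le_antisymm (fun s hs => ?_) (fun e he => ?_)
    · exact c.cent (b : G) hbB (fun h => hb1 (Subtype.ext h)) s (Subgroup.mem_inf.1 s.2).1
        (congrArg Subtype.val (Subgroup.mem_centralizer_singleton_iff.1 hs))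
    · exact Subgroup.mem_centralizer_singleton_iff.2 (Subtype.ext (c.comm _ he _ (c.Ble hbB)))
  have hinj : Function.Injective (Quotient.lift
      (fun g : N => (⟨g * b * g⁻¹, hH₀n.conj_mem b hbH g⟩ : H₀)) (by
        intro g g' hgg
        have hc : g⁻¹ * g' ∈ C := QuotientGroup.leftRel_apply.1 hgg
        have h' := Subgroup.mem_centralizer_singleton_iff.1 hc
        refine Subtype.ext ?_
        calc g * b * g⁻¹ = g * (b * (g⁻¹ * g')) * g'⁻¹ := by group
          _ = g' * b * g'⁻¹ := by rw [← h']; group) : N ⧸ C → H₀) := by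
    intro q q'
    induction q using Quotient.inductionOn with
    | h g =>
      induction q' using Quotient.inductionOn with
      | h g' =>
        intro h
        have h1 : g * b * g⁻¹ = g' * b * g'⁻¹ := congrArg Subtype.val h
        apply QuotientGroup.eq.2
        rw [Subgroup.mem_centralizer_singleton_iff]
        calc g⁻¹ * g' * b = g⁻¹ * (g' * b * g'⁻¹) * g' := by group
          _ = b * (g⁻¹ * g') := by rw [← h1]; group
  have hCle : C.index ≤ 8 := hHcard ▸ Nat.card_le_card_of_injective _ hinj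
  obtain ⟨k, hk⟩ := hN2.index C
  have hne8 : C.index ≠ 8 := by
    intro h8
    -- the orbit would fill `H₀`, which contains the identity
    haveI := Fintype.ofFinite H₀
    haveI : Fintype (N ⧸ C) := Fintype.ofFinite _
    have hbij := (Fintype.bijective_iff_injective_and_card _).2 ⟨hinj, by
      rw [← Nat.card_eq_fintype_card, ← Nat.card_eq_fintype_card, hHcard]; exact h8⟩
    obtain ⟨q, hq⟩ := hbij.2 1
    induction q using Quotient.inductionOn with
    | h g =>
      apply hb1
      have h1 : g * b * g⁻¹ = 1 := congrArg Subtype.val hq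
      exact conj_eq_one_iff.1 h1
  have hk2 : k ≤ 2 := by
    by_contra hk3
    have : 2 ^ 3 ≤ 2 ^ k := Nat.pow_le_pow_right two_pos (by omega)
    omega
  have h4 : C.index ≤ 4 := by
    rw [hk]; exact (Nat.pow_le_pow_right two_pos hk2).trans (by norm_num)
  have h := Subgroup.card_mul_index C
  rw [hC, Nat.card_congr (Subgroup.subgroupOfEquivOfLe hEN).toEquiv, c.card] at h
  rw [hC] at h4
  omega

/-- An elementary subgroup of order 16 normalizing `E` without being `E`. -/
theorem elementary_facts {F : Subgroup G} (hF : F ≤ S ⊓ Subgroup.normalizer (E : Set G))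
    (hcomm : ∀ a ∈ F, ∀ b ∈ F, a * b = b * a) {f : G} (hf : f ∈ F) (hfE : f ∉ E) :
    Nat.card F ≤ 16 ∧ Nat.card ↥(F ⊓ E : Subgroup G) ≤ 4 := by
  have hfS : f ∈ S := (Subgroup.mem_inf.1 (hF hf)).1
  have hle : F ⊓ E ≤ E ⊓ Subgroup.centralizer ({f} : Set G) := fun e he =>
    ⟨(Subgroup.mem_inf.1 he).2,
      Subgroup.mem_centralizer_singleton_iff.2 (hcomm e (Subgroup.mem_inf.1 he).1 f hf)⟩
  have h4 := (Subgroup.card_le_of_le hle).trans (c.centralizer_card hfS hfE)
  refine ⟨?_, h4⟩
  have h := relIndex_mul_card_of_le (inf_le_left : F ⊓ E ≤ F)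
  rw [Subgroup.inf_relIndex_left] at h
  have hr : E.relIndex F ≤ E.relIndex (S ⊓ Subgroup.normalizer (E : Set G)) :=
    Subgroup.relIndex_le_of_le_right hF Subgroup.index_ne_zero_of_finite
  have hN := c.card_normalizer_le
  have h2 := relIndex_mul_card_of_le (le_inf c.le Subgroup.le_normalizer :
    E ≤ S ⊓ Subgroup.normalizer (E : Set G))
  rw [c.card] at h2
  have hr4 : E.relIndex F ≤ 4 := by omega
  calc Nat.card F = E.relIndex F * Nat.card ↥(F ⊓ E : Subgroup G) := h.symm
    _ ≤ 4 * 4 := Nat.mul_le_mul hr4 h4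

theorem secLE_normalizer : SecLE (S ⊓ Subgroup.normalizer (E : Set G)) 4 := by
  set N := S ⊓ Subgroup.normalizer (E : Set G) with hNdef
  intro K M hK hMK hsq
  by_contra hlt
  push Not at hlt
  have hEN : E ≤ N := le_inf c.le Subgroup.le_normalizer
  have hN := c.card_normalizer_le
  rw [← hNdef] at hN
  have hc := relIndex_mul_card_of_le hMK
  have hKN := Subgroup.card_le_of_le hK
  obtain ⟨k, hk⟩ := IsPGroup.iff_card.1 (c.pg.to_le (hK.trans inf_le_left))
  have hMpos : 0 < Nat.card M := Nat.card_pos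
  have hKb : 17 * Nat.card M ≤ Nat.card K := by
    rw [← hc]; exact Nat.mul_le_mul_right _ (by omega)
  have hk5 : 5 ≤ k := by
    by_contra h
    have := Nat.pow_le_pow_right (n := 2) two_pos (show k ≤ 4 by omega)
    omega
  have hk6 : k ≤ 6 := by
    by_contra h
    have := Nat.pow_le_pow_right (n := 2) two_pos (show 7 ≤ k by omega)
    omega
  interval_cases k
  · -- order 32: elementary
    have hM1 : M = ⊥ := Subgroup.card_eq_one.1 (by omega)
    have hel : ∀ x ∈ K, x * x = 1 := fun x hx => by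
      have := hsq x hx; rwa [hM1, Subgroup.mem_bot] at this
    have hcom : ∀ x ∈ K, ∀ y ∈ K, x * y = y * x := fun x hx y hy => by
      have h := comm_mem_of_sq hsq hx hy
      rw [hM1, Subgroup.mem_bot, mul_inv_eq_one, mul_inv_eq_iff_eq_mul] at h
      exact h
    obtain ⟨f, hf, hfE⟩ : ∃ f ∈ K, f ∉ E := by
      by_contra h
      push Not at h
      have h' := Subgroup.card_le_of_le (H := K) (K := E) h
      rw [hk, c.card] at h'
      omega
    have := (c.elementary_facts hK hcom hf hfE).1
    omega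
  · -- order 64: all of `N`
    have hKN' : K = N := Subgroup.eq_of_le_of_card_ge hK (by omega)
    obtain ⟨f, hf, hfE⟩ : ∃ f ∈ N, f ∉ E := by
      by_contra h
      push Not at h
      have h' := Subgroup.card_le_of_le (H := K) (K := E) (hKN' ▸ h)
      rw [hk, c.card] at h'
      omega
    have h4 := c.four_commutators (Subgroup.mem_inf.1 hf).1 hfE (Subgroup.mem_inf.1 hf).2 M
      fun b hb => comm_mem_of_sq hsq (hKN'.symm ▸ hEN (c.Ble hb)) (hKN'.symm ▸ hf)
    omega

/-- Conjugates of `E` inside the normalizer of `E`, other than `E`. -/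
theorem second {F : Subgroup G} (hF : F ≤ S ⊓ Subgroup.normalizer (E : Set G))
    (hFc : Nat.card F = 16) (hcomm : ∀ a ∈ F, ∀ b ∈ F, a * b = b * a)
    (hsq : ∀ a ∈ F, a * a = 1) (hne : F ≠ E) :
    Nat.card ↥(F ⊓ E : Subgroup G) = 4 ∧
      Nat.card ↥(S ⊓ Subgroup.normalizer (E : Set G) : Subgroup G) = 64 ∧
      ∀ n ∈ S ⊓ Subgroup.normalizer (E : Set G), n * n = 1 → n ∈ E ∨ n ∈ F := by
  classical
  set N := S ⊓ Subgroup.normalizer (E : Set G) with hNdef
  obtain ⟨f, hf, hfE⟩ : ∃ f ∈ F, f ∉ E := by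
    by_contra h
    push Not at h
    exact hne (Subgroup.eq_of_le_of_card_ge h (by rw [hFc, c.card]))
  have h4 := (c.elementary_facts hF hcomm hf hfE).2
  have hEN : E ≤ N := le_inf c.le Subgroup.le_normalizer
  have h := relIndex_mul_card_of_le (inf_le_left : F ⊓ E ≤ F)
  rw [Subgroup.inf_relIndex_left, hFc] at h
  have hr : E.relIndex F ≤ E.relIndex N :=
    Subgroup.relIndex_le_of_le_right hF Subgroup.index_ne_zero_of_finite
  have hN := c.card_normalizer_le
  rw [← hNdef] at hN
  have h2 := relIndex_mul_card_of_le hEN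
  rw [c.card] at h2
  have hrN : E.relIndex N ≤ 4 := by omega
  have hrF : E.relIndex F ≤ 4 := hr.trans hrN
  have hW : Nat.card ↥(F ⊓ E : Subgroup G) = 4 := by
    have h16 := Nat.mul_le_mul_right (Nat.card ↥(F ⊓ E : Subgroup G)) hrF
    omega
  have hrF4 : E.relIndex F = 4 := by rw [hW] at h; omega
  have hrN4 : E.relIndex N = 4 := by omega
  refine ⟨hW, by omega, ?_⟩
  -- every element of `N` is a product
  have hprod : ∀ n ∈ N, ∃ g ∈ F, ∃ e ∈ E, n = g * e := by
    intro n hn
    haveI := Fintype.ofFinite (F ⧸ E.subgroupOf F)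
    haveI := Fintype.ofFinite (N ⧸ E.subgroupOf N)
    let π : F ⧸ E.subgroupOf F → N ⧸ E.subgroupOf N :=
      Quotient.map' (Subgroup.inclusion hF) (by
        intro a b hab
        rw [QuotientGroup.leftRel_apply] at hab ⊢
        exact hab)
    have hπ : Function.Injective π := by
      intro q q'
      induction q using Quotient.inductionOn' with
      | h a =>
        induction q' using Quotient.inductionOn' with
        | h b =>
          intro hh
          have hh' := Quotient.exact' hh
          rw [QuotientGroup.leftRel_apply] at hh'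
          exact Quotient.sound' (QuotientGroup.leftRel_apply.2 hh')
    have hbij := (Fintype.bijective_iff_injective_and_card π).2 ⟨hπ, by
      rw [← Nat.card_eq_fintype_card, ← Nat.card_eq_fintype_card]
      exact hrF4.trans hrN4.symm⟩
    obtain ⟨q, hq⟩ := hbij.2 (QuotientGroup.mk ⟨n, hn⟩)
    induction q using Quotient.inductionOn' with
    | h a =>
      have hh : (a : G)⁻¹ * n ∈ E := by
        have := Quotient.exact' hq
        rw [QuotientGroup.leftRel_apply] at this
        exact this
      exact ⟨a, a.2, _, hh, (mul_inv_cancel_left _ _).symm⟩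
  intro n hn hn2
  obtain ⟨g, hg, e, he, rfl⟩ := hprod n hn
  by_cases hgE : g ∈ E
  · exact .inl (E.mul_mem hgE he)
  right
  have hcg : e * g = g * e := by
    have h1 : g * e * (g * e) = 1 := hn2
    calc e * g = (g * g) * (e * g) * (e * e) := by rw [hsq g hg, c.sq e he]; group
      _ = g * (g * e * (g * e)) * e := by group
      _ = g * e := by rw [h1, mul_one]
  have hle : F ⊓ E ≤ E ⊓ Subgroup.centralizer ({g} : Set G) := fun x hx =>
    ⟨(Subgroup.mem_inf.1 hx).2,
      Subgroup.mem_centralizer_singleton_iff.2 (hcomm x (Subgroup.mem_inf.1 hx).1 g hg)⟩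
  have heq := Subgroup.eq_of_le_of_card_ge hle
    ((c.centralizer_card (Subgroup.mem_inf.1 (hF hg)).1 hgE).trans hW.ge)
  have : e ∈ F ⊓ E := by
    rw [heq]
    exact ⟨he, Subgroup.mem_centralizer_singleton_iff.2 hcg⟩
  exact F.mul_mem hg (Subgroup.mem_inf.1 this).1

end Ctx

end CfsgLib.HaradaDB
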