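import Cfsg.Agent.Lib.HaradaDB.Elementary

/-!
Harada's rank bound for a Sylow 2-subgroup of an involution centralizer of shape `D × B`.
-/

set_option autoImplicit false
set_option linter.style.haveILetI false

namespace CfsgLib.HaradaDB

variable {G : Type*} [Group G] [Finite G]

omit [Finite G] in
theorem conj_mem_map_iff {g x : G} {X : Subgroup G} :
    g * x * g⁻¹ ∈ X.map (MulAut.conj g).toMonoidHom ↔ x ∈ X := by
  refine ⟨?_, fun h => ⟨x, h, by simp⟩⟩
  rintro ⟨y, hy, h⟩
  have h' : g * y * g⁻¹ = g * x * g⁻¹ := by simpa using h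
  rwa [mul_left_cancel (mul_right_cancel h')] at hy

omit [Finite G] in
theorem mem_normalizer_of_map_eq {g : G} {X : Subgroup G}
    (h : X.map (MulAut.conj g).toMonoidHom = X) : g ∈ Subgroup.normalizer (X : Set G) := by
  rw [Subgroup.mem_normalizer_iff]
  intro x
  rw [← conj_mem_map_iff (g := g) (X := X), h]

omit [Finite G] in
theorem map_eq_of_mem_normalizer {g : G} {X : Subgroup G}
    (h : g ∈ Subgroup.normalizer (X : Set G)) : X.map (MulAut.conj g).toMonoidHom = X := by
  ext x
  have hx : x = g * (g⁻¹ * x * g) * g⁻¹ := by group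
  rw [hx, conj_mem_map_iff]
  exact Subgroup.mem_normalizer_iff.1 h _

omit [Finite G] in
/-- A subgroup inside the union of two subgroups lies in one of them. -/
theorem le_or_le_of_subset_union {X A C : Subgroup G} (h : ∀ x ∈ X, x ∈ A ∨ x ∈ C) :
    X ≤ A ∨ X ≤ C := by
  by_contra hne
  push Not at hne
  obtain ⟨x, hx, hxA⟩ := SetLike.not_le_iff_exists.1 hne.1
  obtain ⟨y, hy, hyC⟩ := SetLike.not_le_iff_exists.1 hne.2
  have hxC := (h x hx).resolve_left hxA
  have hyA := (h y hy).resolve_right hyC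
  rcases h (x * y) (X.mul_mem hx hy) with hxy | hxy
  · exact hxA (by simpa using A.mul_mem hxy (A.inv_mem hyA))
  · exact hyC (by simpa using C.mul_mem (C.inv_mem hxC) hxy)

namespace Ctx

variable {S E B : Subgroup G} (c : Ctx S E B)

include c

omit [Finite G] in
theorem conj_facts {g : G} (hg : g ∈ S) :
    E.map (MulAut.conj g).toMonoidHom ≤ S ∧
      Nat.card ↥(E.map (MulAut.conj g).toMonoidHom) = 16 ∧
      (∀ a ∈ E.map (MulAut.conj g).toMonoidHom, ∀ b ∈ E.map (MulAut.conj g).toMonoidHom,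
        a * b = b * a) ∧
      ∀ a ∈ E.map (MulAut.conj g).toMonoidHom, a * a = 1 := by
  refine ⟨?_, ?_, ?_, ?_⟩
  · rintro _ ⟨x, hx, rfl⟩
    simpa using S.mul_mem (S.mul_mem hg (c.le hx)) (S.inv_mem hg)
  · rw [Subgroup.card_map_of_injective (MulAut.conj g).injective, c.card]
  · rintro _ ⟨a, ha, rfl⟩ _ ⟨b, hb, rfl⟩
    rw [← map_mul, ← map_mul, c.comm a ha b hb]
  · rintro _ ⟨a, ha, rfl⟩
    rw [← map_mul, c.sq a ha, map_one]

theorem secLE : SecLE S 4 := by
  classical
  haveI : Fact (Nat.Prime 2) := ⟨Nat.prime_two⟩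
  set N := S ⊓ Subgroup.normalizer (E : Set G) with hNdef
  by_cases hNS : N = S
  · intro K M hK hMK hsq
    exact c.secLE_normalizer K M (hNdef ▸ hNS.symm ▸ hK) hMK hsq
  have hEN : E ≤ N := le_inf c.le Subgroup.le_normalizer
  set S₁ := S ⊓ Subgroup.normalizer (N : Set G) with hS₁def
  -- the second elementary subgroup
  obtain ⟨q, hqS, hqN, hqn, -⟩ :=
    exists_normalizing c.pg (inf_le_left : N ≤ S) hNS
  let F := E.map (MulAut.conj q).toMonoidHom
  obtain ⟨-, hFc, hFcomm, hFsq⟩ := c.conj_facts hqS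
  have hFN : F ≤ N := by
    rintro _ ⟨x, hx, rfl⟩
    exact (Subgroup.mem_normalizer_iff.1 hqn x).1 (hEN hx)
  have hFE : F ≠ E := fun h => hqN (Subgroup.mem_inf.2 ⟨hqS, mem_normalizer_of_map_eq h⟩)
  obtain ⟨hW, hN64, hinv⟩ := c.second hFN hFc hFcomm hFsq hFE
  change Nat.card N = 64 at hN64
  change Nat.card F = 16 at hFc
  -- the only subgroups of this shape in `N`
  have honly : ∀ X : Subgroup G, X ≤ N → (∀ a ∈ X, a * a = 1) → X ≤ E ∨ X ≤ F := fun X hX hsq =>
    le_or_le_of_subset_union fun x hx => hinv x (hX hx) (hsq x hx)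
  have hswap : ∀ s ∈ S₁, s ∉ N → E.map (MulAut.conj s).toMonoidHom = F := by
    intro s hs hsN
    obtain ⟨hsS, hsn⟩ := Subgroup.mem_inf.1 hs
    obtain ⟨-, hc16, -, hsq⟩ := c.conj_facts hsS
    rcases honly _ (by
      rintro _ ⟨x, hx, rfl⟩
      exact (Subgroup.mem_normalizer_iff.1 hsn x).1 (hEN hx)) hsq with h | h
    · exact absurd (Subgroup.mem_inf.2 ⟨hsS, mem_normalizer_of_map_eq
        (Subgroup.eq_of_le_of_card_ge h (by rw [hc16, c.card]))⟩) hsN
    · exact Subgroup.eq_of_le_of_card_ge h (by rw [hc16, hFc])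
  have hpair : ∀ s ∈ S₁, s ∉ N → ∀ t ∈ S₁, t ∉ N → s⁻¹ * t ∈ N := by
    intro s hs hsN t ht htN
    refine Subgroup.mem_inf.2 ⟨S.mul_mem (S.inv_mem (Subgroup.mem_inf.1 hs).1)
      (Subgroup.mem_inf.1 ht).1, ?_⟩
    rw [Subgroup.mem_normalizer_iff]
    intro x
    rw [← conj_mem_map_iff (g := t) (X := E), hswap t ht htN, ← hswap s hs hsN,
      ← conj_mem_map_iff (g := s) (X := E) (x := s⁻¹ * t * x * (s⁻¹ * t)⁻¹),
      show s * (s⁻¹ * t * x * (s⁻¹ * t)⁻¹) * s⁻¹ = t * x * t⁻¹ by group]
  -- `S₁` is self-normalizing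
  have hN₁ : N ≤ S₁ := le_inf inf_le_left Subgroup.le_normalizer
  have hconjN : ∀ g ∈ S, g ∈ Subgroup.normalizer (S₁ : Set G) →
      E.map (MulAut.conj g).toMonoidHom ≤ N := by
    intro g hgS hgn
    obtain ⟨-, hc16, hcm, hsq⟩ := c.conj_facts hgS
    set X := E.map (MulAut.conj g).toMonoidHom with hX
    have hXS₁ : X ≤ S₁ := by
      rintro _ ⟨x, hx, rfl⟩
      exact (Subgroup.mem_normalizer_iff.1 hgn x).1 (hN₁ (hEN hx))
    by_contra hne
    obtain ⟨s, hsX, hsN⟩ := SetLike.not_le_iff_exists.1 hne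
    have hidx : N.relIndex X ≤ 2 := by
      have hs' : ∀ u : X, (QuotientGroup.mk u : X ⧸ N.subgroupOf X) = QuotientGroup.mk 1 ∨
          (QuotientGroup.mk u : X ⧸ N.subgroupOf X) = QuotientGroup.mk ⟨s, hsX⟩ := by
        intro u
        by_cases hu : (u : G) ∈ N
        · exact .inl (QuotientGroup.eq.2 (by simpa [Subgroup.mem_subgroupOf] using hu))
        · refine .inr (QuotientGroup.eq.2 ?_)
          exact hpair u (hXS₁ u.2) hu s (hXS₁ hsX) hsN
      have hsur : Function.Surjective (fun w : Bool =>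
          (QuotientGroup.mk (if w then ⟨s, hsX⟩ else 1) : X ⧸ N.subgroupOf X)) := by
        intro u
        induction u using Quotient.inductionOn' with
        | h u =>
          rcases hs' u with h | h
          · exact ⟨false, h.symm⟩
          · exact ⟨true, h.symm⟩
      have := Nat.card_le_card_of_surjective _ hsur
      rw [Nat.card_eq_fintype_card (α := Bool), Fintype.card_bool] at this
      exact this
    have h8 : 8 ≤ Nat.card ↥(X ⊓ N : Subgroup G) := by
      have h := relIndex_mul_card_of_le (inf_le_left : X ⊓ N ≤ X)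
      rw [Subgroup.inf_relIndex_left, hc16] at h
      have := Nat.mul_le_mul_right (Nat.card ↥(X ⊓ N : Subgroup G)) hidx
      omega
    have hsame : ∀ x ∈ X ⊓ N, ∀ Y : Subgroup G, x ∈ Y →
        x ∈ Y.map (MulAut.conj s).toMonoidHom := fun x hx Y hY => by
      have hcs : s * x * s⁻¹ = x := by
        rw [hcm s hsX x (Subgroup.mem_inf.1 hx).1, mul_inv_cancel_right]
      exact hcs ▸ conj_mem_map_iff.2 hY
    have hle : X ⊓ N ≤ F ⊓ E := by
      rcases honly (X ⊓ N) inf_le_right (fun a ha => hsq a (Subgroup.mem_inf.1 ha).1) with h | h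
      · intro x hx
        refine Subgroup.mem_inf.2 ⟨?_, h hx⟩
        rw [← hswap s (hXS₁ hsX) hsN]
        exact hsame x hx E (h hx)
      · intro x hx
        refine Subgroup.mem_inf.2 ⟨h hx, ?_⟩
        have hxs : s * x * s⁻¹ = x := by
          rw [hcm s hsX x (Subgroup.mem_inf.1 hx).1, mul_inv_cancel_right]
        have : s * x * s⁻¹ ∈ E.map (MulAut.conj s).toMonoidHom := by
          rw [hswap s (hXS₁ hsX) hsN, hxs]; exact h hx
        exact conj_mem_map_iff.1 this
    have := Subgroup.card_le_of_le hle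
    omega
  have hS₁S : S₁ = S := by
    by_contra hne
    obtain ⟨g, hgS, hg₁, hgn, -⟩ := exists_normalizing c.pg (inf_le_left : S₁ ≤ S) hne
    obtain ⟨-, hEc, -, hEsq⟩ := c.conj_facts hgS
    have hgq : g * q ∈ Subgroup.normalizer (S₁ : Set G) :=
      Subgroup.mul_mem _ hgn (Subgroup.le_normalizer (Subgroup.mem_inf.2 ⟨hqS, hqn⟩))
    obtain ⟨-, hFc', -, hFsq'⟩ := c.conj_facts (S.mul_mem hgS hqS)
    apply hg₁
    refine Subgroup.mem_inf.2 ⟨hgS, mem_normalizer_of_map_eq ?_⟩
    -- the conjugate of `N` contains the conjugates of `E` and `F`, which are `E` and `F`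
    set gN := N.map (MulAut.conj g).toMonoidHom with hgN
    have h1 : E.map (MulAut.conj g).toMonoidHom ≤ gN := Subgroup.map_mono hEN
    have h2 : E.map (MulAut.conj (g * q)).toMonoidHom ≤ gN := by
      rintro _ ⟨x, hx, rfl⟩
      refine ⟨q * x * q⁻¹, (Subgroup.mem_normalizer_iff.1 hqn x).1 (hEN hx), ?_⟩
      simp [mul_assoc]
    have hdiff : E.map (MulAut.conj g).toMonoidHom ≠ E.map (MulAut.conj (g * q)).toMonoidHom := by
      intro h
      apply hFE
      ext x
      rw [show x ∈ E ↔ g * x * g⁻¹ ∈ E.map (MulAut.conj g).toMonoidHom from conj_mem_map_iff.symm, h]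
      constructor
      · rintro ⟨y, hy, rfl⟩
        exact ⟨y, hy, by simp [mul_assoc]⟩
      · rintro ⟨y, hy, hyx⟩
        refine ⟨y, hy, (MulAut.conj g).injective ?_⟩
        simpa [mul_assoc] using hyx
    have hchoice : ∀ h ∈ S, h ∈ Subgroup.normalizer (S₁ : Set G) →
        E.map (MulAut.conj h).toMonoidHom = E ∨ E.map (MulAut.conj h).toMonoidHom = F := by
      intro h hhS hhn
      obtain ⟨-, hc, -, hq⟩ := c.conj_facts hhS
      rcases honly _ (hconjN h hhS hhn) hq with h' | h'
      · exact .inl (Subgroup.eq_of_le_of_card_ge h' (by rw [hc, c.card]))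
      · exact .inr (Subgroup.eq_of_le_of_card_ge h' (by rw [hc, hFc]))
    have hEFle : E ⊔ F ≤ gN := by
      rcases hchoice g hgS hgn with e1 | e1 <;>
        rcases hchoice (g * q) (S.mul_mem hgS hqS) hgq with e2 | e2
      · exact absurd (e1.trans e2.symm) hdiff
      · exact sup_le (e1 ▸ h1) (e2 ▸ h2)
      · exact sup_le (e2 ▸ h2) (e1 ▸ h1)
      · exact absurd (e1.trans e2.symm) hdiff
    -- `N` is generated by `E` and `F`
    have hgen : 64 ≤ Nat.card ↥(E ⊔ F : Subgroup G) := by
      have hr := relIndex_mul_card_of_le (le_sup_left : E ≤ E ⊔ F)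
      have h' := relIndex_mul_card_of_le (inf_le_left : F ⊓ E ≤ F)
      rw [Subgroup.inf_relIndex_left, hFc, hW] at h'
      have hmono : E.relIndex F ≤ E.relIndex (E ⊔ F) :=
        Subgroup.relIndex_le_of_le_right le_sup_right Subgroup.index_ne_zero_of_finite
      rw [c.card] at hr
      omega
    have hgNc : Nat.card gN = 64 := by
      rw [hgN, Subgroup.card_map_of_injective (MulAut.conj g).injective, hN64]
    have e3 : E ⊔ F = N := Subgroup.eq_of_le_of_card_ge (sup_le hEN hFN) (by omega)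
    exact (Subgroup.eq_of_le_of_card_ge (e3 ▸ hEFle) (by omega)).symm
  -- the sections
  intro K M hK hMK hsq
  by_contra hlt
  push Not at hlt
  by_cases hKN : K ≤ N
  · exact absurd (c.secLE_normalizer K M hKN hMK hsq) (by omega)
  obtain ⟨s, hsK, hsN⟩ := SetLike.not_le_iff_exists.1 hKN
  have hsS₁ : s ∈ S₁ := hS₁S.symm ▸ hK hsK
  obtain ⟨L, hLdef⟩ : ∃ L, L = K ⊓ N := ⟨_, rfl⟩
  have hidx : L.relIndex K ≤ 2 := by
    have hsur : Function.Surjective (fun w : Bool =>
        (QuotientGroup.mk (if w then ⟨s, hsK⟩ else 1) : K ⧸ L.subgroupOf K)) := by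
      intro u
      induction u using Quotient.inductionOn' with
      | h u =>
        by_cases hu : (u : G) ∈ N
        · exact ⟨false, (QuotientGroup.eq.2 (by
            simpa [Subgroup.mem_subgroupOf, hLdef] using Subgroup.mem_inf.2 ⟨u.2, hu⟩))⟩
        · refine ⟨true, (QuotientGroup.eq.2 ?_)⟩
          rw [Subgroup.mem_subgroupOf, hLdef]
          exact Subgroup.mem_inf.2 ⟨(_ : K).2, hpair s hsS₁ hsN u (hS₁S.symm ▸ hK u.2) hu⟩
    have := Nat.card_le_card_of_surjective _ hsur
    rw [Nat.card_eq_fintype_card (α := Bool), Fintype.card_bool] at this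
    exact this
  have hLK : L ≤ K := hLdef ▸ inf_le_left
  have hLN : L ≤ N := hLdef ▸ inf_le_right
  have hLNc : Nat.card L ≤ 64 := hN64 ▸ Subgroup.card_le_of_le hLN
  refine (?_ : False)
  have h1 := relIndex_mul_card_of_le (inf_le_right : M ⊓ L ≤ L)
  rw [Subgroup.inf_relIndex_right] at h1
  have h2 : M.relIndex K ≤ M.relIndex L * L.relIndex K := by
    calc M.relIndex K ≤ (M ⊓ L).relIndex K :=
          Subgroup.relIndex_le_of_le_left inf_le_left Subgroup.index_ne_zero_of_finite
      _ = (M ⊓ L).relIndex L * L.relIndex K :=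
          (Subgroup.relIndex_mul_relIndex _ _ _ inf_le_right hLK).symm
      _ = M.relIndex L * L.relIndex K := by rw [Subgroup.inf_relIndex_right]
  have h3 : 16 < M.relIndex L * 2 := lt_of_lt_of_le hlt (h2.trans (Nat.mul_le_mul_left _ hidx))
  have hpow : ∃ k, M.relIndex L = 2 ^ k :=
    (c.pg.to_le (hLN.trans inf_le_left)).index (M.subgroupOf L)
  obtain ⟨k, hk⟩ := hpow
  have h4 : 16 ≤ M.relIndex L := by
    rw [hk] at h3 ⊢
    by_contra hk4
    have : k ≤ 3 := by
      by_contra hh
      exact hk4 (Nat.pow_le_pow_right (n := 2) two_pos (show 4 ≤ k by omega))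
    have := Nat.pow_le_pow_right (n := 2) two_pos this
    omega
  have hpos : 0 < Nat.card ↥(M ⊓ L : Subgroup G) := Nat.card_pos
  have h5 : M.relIndex L ≤ 16 := by
    have h := c.secLE_normalizer L (M ⊓ L) hLN inf_le_right fun x hx =>
      Subgroup.mem_inf.2 ⟨hsq x (hLK hx), L.mul_mem hx hx⟩
    rwa [Subgroup.inf_relIndex_right] at h
  · -- so the index is exactly sixteen
    have hrel : M.relIndex L = 16 := by omega
    have h6 : 16 * Nat.card ↥(M ⊓ L : Subgroup G) = Nat.card L := by rw [← hrel]; exact h1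
    by_cases hA : ∃ a ∈ L ⊓ E, a ∉ F
    · obtain ⟨a, ha, haF⟩ := hA
      obtain ⟨haL, haE⟩ := Subgroup.mem_inf.1 ha
      let a' := s * a * s⁻¹
      have ha'F : a' ∈ F := hswap s hsS₁ hsN ▸ conj_mem_map_iff.2 haE
      have ha'E : a' ∉ E := by
        intro h
        apply haF
        have hsi : E.map (MulAut.conj s⁻¹).toMonoidHom = F :=
          hswap s⁻¹ (S₁.inv_mem hsS₁) (fun hh => hsN (inv_inv s ▸ N.inv_mem hh))
        have := conj_mem_map_iff (g := s⁻¹) (X := E) (x := a') |>.2 h
        rw [hsi] at this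
        simpa [a', mul_assoc] using this
      have ha'L : a' ∈ L := by
        rw [hLdef]
        exact Subgroup.mem_inf.2 ⟨K.mul_mem (K.mul_mem hsK (hLK haL)) (K.inv_mem hsK),
          hFN ha'F⟩
      have hm : a' * a ∈ M ⊓ L := by
        refine Subgroup.mem_inf.2 ⟨?_, L.mul_mem ha'L haL⟩
        have h := M.mul_mem (comm_mem_of_sq hsq hsK (hLK haL)) (hsq a (hLK haL))
        have e : s * a * s⁻¹ * a⁻¹ * (a * a) = a' * a := by simp [a', mul_assoc]
        exact e ▸ h
      have hm1 : (a' * a) * (a' * a) ≠ 1 := by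
        intro h1'
        rcases hinv _ (hLN (L.mul_mem ha'L haL)) h1' with h' | h'
        · exact ha'E (by simpa using E.mul_mem h' (E.inv_mem haE))
        · exact haF (by simpa using F.mul_mem (F.inv_mem ha'F) h')
      have h3' : 3 ≤ Nat.card ↥(M ⊓ L : Subgroup G) := by
        let u : ↥(M ⊓ L : Subgroup G) := ⟨a' * a, hm⟩
        haveI := Fintype.ofFinite ↥(M ⊓ L : Subgroup G)
        have hd : ({1, u, u * u} : Finset ↥(M ⊓ L : Subgroup G)).card = 3 := by
          have hu : u ≠ 1 := fun h => hm1 (by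
            have : a' * a = 1 := congrArg Subtype.val h
            rw [this, one_mul])
          have huu : u * u ≠ 1 := fun h => hm1 (congrArg Subtype.val h)
          rw [Finset.card_insert_of_notMem, Finset.card_pair]
          · exact fun h => hu (mul_eq_left.1 h.symm)
          · simp [Ne.symm hu, Ne.symm huu]
        rw [Nat.card_eq_fintype_card, ← hd]
        exact Finset.card_le_univ _
      have hLeq : L = N := Subgroup.eq_of_le_of_card_ge hLN (by
        obtain ⟨k, hk⟩ := IsPGroup.iff_card.1 (c.pg.to_le (hLN.trans inf_le_left))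
        have h48 : 48 ≤ Nat.card L := by omega
        rw [hk] at h48
        rw [hN64, hk]
        by_contra h
        have : k ≤ 5 := by
          by_contra hh
          exact h (Nat.pow_le_pow_right (n := 2) two_pos (show 6 ≤ k by omega))
        have := Nat.pow_le_pow_right (n := 2) two_pos this
        omega)
      have hMc : Nat.card ↥(M ⊓ L : Subgroup G) = 4 := by
        have hLc : Nat.card L = 64 := hLeq.symm ▸ hN64
        omega
      have hM4 : 4 ≤ Nat.card ↥(M ⊓ L ⊓ E : Subgroup G) := by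
        have hn : a' ∈ Subgroup.normalizer (E : Set G) := (Subgroup.mem_inf.1 (hFN ha'F)).2
        refine c.four_commutators (Subgroup.mem_inf.1 (hFN ha'F)).1 ha'E hn _ fun b hb => ?_
        have hbL : b ∈ L := hLeq ▸ hEN (c.Ble hb)
        refine Subgroup.mem_inf.2 ⟨Subgroup.mem_inf.2 ⟨comm_mem_of_sq hsq (hLK hbL) (hLK ha'L),
          L.mul_mem (L.mul_mem (L.mul_mem hbL ha'L) (L.inv_mem hbL)) (L.inv_mem ha'L)⟩, ?_⟩
        rw [show b * a' * b⁻¹ * a'⁻¹ = b * (a' * b⁻¹ * a'⁻¹) by group]
        exact E.mul_mem (c.Ble hb)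
          ((Subgroup.mem_normalizer_iff.1 hn _).1 (E.inv_mem (c.Ble hb)))
      have hall : M ⊓ L ⊓ E = M ⊓ L :=
        Subgroup.eq_of_le_of_card_ge inf_le_left (by rw [hMc]; exact hM4)
      have hmE : a' * a ∈ E := (Subgroup.mem_inf.1 (hall.symm ▸ hm : a' * a ∈ M ⊓ L ⊓ E)).2
      exact ha'E (by simpa using E.mul_mem hmE (E.inv_mem haE))
    · push Not at hA
      have hLE : Nat.card ↥(L ⊓ E : Subgroup G) ≤ 4 :=
        hW ▸ Subgroup.card_le_of_le (fun x hx => Subgroup.mem_inf.2
          ⟨hA x hx, (Subgroup.mem_inf.1 hx).2⟩)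
      have hr : E.relIndex L ≤ 4 := by
        have h7 : E.relIndex L ≤ E.relIndex N :=
          Subgroup.relIndex_le_of_le_right hLN Subgroup.index_ne_zero_of_finite
        have h8 := relIndex_mul_card_of_le hEN
        rw [c.card, hN64] at h8
        omega
      have h9 := relIndex_mul_card_of_le (inf_le_left : L ⊓ E ≤ L)
      rw [Subgroup.inf_relIndex_left] at h9
      have h10 : Nat.card L ≤ 16 := by
        rw [← h9]; exact Nat.mul_le_mul hr hLE
      have hone : M ⊓ L = ⊥ := Subgroup.card_eq_one.1 (by omega)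
      have hel : ∀ x ∈ L, x * x = 1 := fun x hx => by
        have : x * x ∈ M ⊓ L := Subgroup.mem_inf.2 ⟨hsq x (hLK hx), L.mul_mem hx hx⟩
        rwa [hone, Subgroup.mem_bot] at this
      rcases honly L hLN hel with h | h
      · have hEq : L ⊓ E = L := inf_eq_left.2 h
        rw [hEq] at hLE
        omega
      · -- `L` is `F`, so `s` cannot move it
        have hLF : L = F := Subgroup.eq_of_le_of_card_ge h (by omega)
        apply hsN
        refine Subgroup.mem_inf.2 ⟨hK hsK, mem_normalizer_of_map_eq ?_⟩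
        have hsn : s ∈ Subgroup.normalizer (F : Set G) := by
          rw [← hLF, hLdef, Subgroup.mem_normalizer_iff]
          intro x
          have hn := Subgroup.mem_normalizer_iff.1 (Subgroup.mem_inf.1 hsS₁).2 x
          constructor
          · intro hx
            exact Subgroup.mem_inf.2 ⟨K.mul_mem (K.mul_mem hsK (Subgroup.mem_inf.1 hx).1)
              (K.inv_mem hsK), hn.1 (Subgroup.mem_inf.1 hx).2⟩
          · intro hx
            refine Subgroup.mem_inf.2 ⟨?_, hn.2 (Subgroup.mem_inf.1 hx).2⟩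
            simpa [mul_assoc] using K.mul_mem (K.mul_mem (K.inv_mem hsK)
              (Subgroup.mem_inf.1 hx).1) hsK
        exfalso
        apply hFE
        refine (SetLike.ext fun x => ?_ : F = E)
        rw [Subgroup.mem_normalizer_iff.1 hsn x, ← hswap s hsS₁ hsN, conj_mem_map_iff]

end Ctx

end CfsgLib.HaradaDB
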